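import Mathlib.CategoryTheory.Preadditive.AdditiveFunctor
import Mathlib.CategoryTheory.Limits.Shapes.Products
import Mathlib.LinearAlgebra.Matrix.Adjugate
import Mathlib.LinearAlgebra.Matrix.NonsingularInverse
import Mathlib.LinearAlgebra.FiniteDimensional.Basic
import Mathlib.LinearAlgebra.StdBasis
import Mathlib.LinearAlgebra.Matrix.Rank

/-!
An idempotent matrix splits, locally on the spectrum, as a trivial summand.
-/

set_option autoImplicit false

universe u v w

open Matrix

namespace Groth.Agent.FlatModSummand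

/-- If `P` is an idempotent matrix and `φ` a map to a field, then after multiplying by some `D` with
`φ D ≠ 0` the matrix `P` factors through a free module of rank `r` in both directions. -/
theorem exists_split {A : Type u} {K : Type v} [CommRing A] [Field K] (φ : A →+* K) {n : ℕ}
    (P : Matrix (Fin n) (Fin n) A) (hP : P * P = P) :
    ∃ (r : ℕ) (a : Matrix (Fin n) (Fin r) A) (b : Matrix (Fin r) (Fin n) A) (D : A),
      φ D ≠ 0 ∧ b * P * a = D • 1 ∧ P * a * b * P = D • P := by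
  classical
  let c : Fin n ⊕ Fin n → Fin n → A :=
    Sum.elim (fun k i => P i k) (fun k i => (1 - P : Matrix (Fin n) (Fin n) A) i k)
  let v : Fin n ⊕ Fin n → Fin n → K := fun s i => φ (c s i)
  have hspan : ⊤ ≤ Submodule.span K (Set.range v) := by
    rw [← (Pi.basisFun K (Fin n)).span_eq, Submodule.span_le]
    rintro _ ⟨k, rfl⟩
    have : (Pi.basisFun K (Fin n)) k = v (Sum.inl k) + v (Sum.inr k) := by
      funext i
      simp [v, c, Pi.basisFun_apply, Pi.single_apply, Matrix.one_apply, map_sub, eq_comm]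
    rw [this]
    exact add_mem (Submodule.subset_span ⟨_, rfl⟩) (Submodule.subset_span ⟨_, rfl⟩)
  obtain ⟨κ, a, ha, hsp, hli⟩ := exists_linearIndependent' K v
  let bas : Module.Basis κ K (Fin n → K) := Module.Basis.mk hli (hsp ▸ hspan)
  let e : κ ≃ Fin n := bas.indexEquiv (Pi.basisFun K (Fin n))
  let s : Fin n → Fin n ⊕ Fin n := a ∘ e.symm
  let Q : Matrix (Fin n) (Fin n) A := Matrix.of fun i j => c (s j) i
  have hQ : IsUnit (Q.map φ) := by
    rw [← Matrix.linearIndependent_cols_iff_isUnit]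
    exact hli.comp e.symm e.symm.injective
  have hD : φ Q.det ≠ 0 := by
    rw [RingHom.map_det]
    exact ((Matrix.isUnit_iff_isUnit_det _).1 hQ).ne_zero
  let d : Fin n → A := fun j => if (s j).isLeft then 1 else 0
  have hPQ : P * Q = Q * diagonal d := by
    ext i j
    rw [Matrix.mul_diagonal]
    rcases hs : s j with k | k
    · have : (P * Q) i j = (P * P) i k := by simp [Matrix.mul_apply, Q, c, hs]
      rw [this, hP]
      simp [Q, c, d, hs]
    · have : (P * Q) i j = (P * (1 - P)) i k := by simp [Matrix.mul_apply, Q, c, hs]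
      rw [this, Matrix.mul_sub, Matrix.mul_one, hP, sub_self]
      simp [Q, c, d, hs]
  let T := Q.adjugate
  have h1 : T * P * Q = Q.det • diagonal d := by
    rw [Matrix.mul_assoc, hPQ, ← Matrix.mul_assoc, Matrix.adjugate_mul, Matrix.smul_mul,
      Matrix.one_mul]
  have h2 : Q * diagonal d * T = Q.det • P := by
    rw [← hPQ, Matrix.mul_assoc, Matrix.mul_adjugate, Matrix.mul_smul, Matrix.mul_one]
  let J := {j : Fin n // (s j).isLeft}
  let ι : Fin (Fintype.card J) → Fin n := fun j => ((Fintype.equivFin J).symm j).1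
  have hι : Function.Injective ι := Subtype.val_injective.comp (Equiv.injective _)
  refine ⟨_, Q.submatrix id ι, T.submatrix ι id, Q.det, hD, ?_, ?_⟩
  · have : T.submatrix ι id * P * Q.submatrix id ι = (T * P * Q).submatrix ι ι := by
      ext i j; simp [Matrix.mul_apply]
    rw [this, h1]
    ext i j
    have hdi : d (ι i) = 1 := by simp [d, ι, ((Fintype.equivFin J).symm i).2]
    simp [Matrix.diagonal_apply, Matrix.one_apply, hι.eq_iff, hdi]
  · have : Q.submatrix id ι * T.submatrix ι id = Q * diagonal d * T := by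
      ext i k
      rw [Matrix.mul_apply, Matrix.mul_apply (M := Q * diagonal d)]
      simp only [Matrix.mul_diagonal, Matrix.submatrix_apply, id]
      rw [show ∑ j, Q i (ι j) * T (ι j) k = ∑ j : J, Q i j.1 * T j.1 k from
        Fintype.sum_equiv (Fintype.equivFin J).symm _ _ (fun _ => rfl),
        ← Finset.sum_subtype (Finset.univ.filter fun j => (s j).isLeft) (by simp)
          (fun j => Q i j * T j k), Finset.sum_filter]
      exact Finset.sum_congr rfl fun j _ => by simp [d, mul_ite, ite_mul]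
    rw [Matrix.mul_assoc P, this, h2, Matrix.mul_smul, hP, Matrix.smul_mul, hP]

open CategoryTheory CategoryTheory.Limits

variable {C : Type u} [Category.{v} C] [Preadditive C] [HasFiniteCoproducts C] {O : C}
variable {A : Type w} [CommRing A] (sc : A →+* End O)

/-- The morphism `O^n ⟶ O^m` given by an `m × n` matrix. -/
noncomputable def mk {m n : ℕ} (a : Matrix (Fin m) (Fin n) A) :
    (∐ fun _ : Fin n => O) ⟶ ∐ fun _ : Fin m => O :=
  Sigma.desc fun j => ∑ i, End.asHom (sc (a i j)) ≫ Sigma.ι (fun _ : Fin m => O) i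

/-- The `k`-th projection `O^n ⟶ O`. -/
noncomputable def proj {n : ℕ} (k : Fin n) : (∐ fun _ : Fin n => O) ⟶ O :=
  Sigma.desc fun j => if j = k then 𝟙 O else 0

@[reassoc] theorem ι_proj {n : ℕ} (j k : Fin n) :
    Sigma.ι (fun _ : Fin n => O) j ≫ proj k = if j = k then 𝟙 O else 0 := by simp [proj]

theorem sum_proj_ι (n : ℕ) :
    ∑ k, proj k ≫ Sigma.ι (fun _ : Fin n => O) k = 𝟙 (∐ fun _ : Fin n => O) := by
  refine Sigma.hom_ext _ _ fun j => ?_
  simp [Preadditive.comp_sum, ι_proj_assoc, ite_comp]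

@[reassoc] theorem ι_mk {m n : ℕ} (a : Matrix (Fin m) (Fin n) A) (j : Fin n) :
    Sigma.ι (fun _ : Fin n => O) j ≫ mk sc a =
      ∑ i, End.asHom (sc (a i j)) ≫ Sigma.ι (fun _ : Fin m => O) i := by simp [mk]

theorem ι_mk_proj {m n : ℕ} (a : Matrix (Fin m) (Fin n) A) (i : Fin m) (j : Fin n) :
    Sigma.ι (fun _ : Fin n => O) j ≫ mk sc a ≫ proj i = sc (a i j) := by
  simp [ι_mk_assoc, Preadditive.sum_comp, ι_proj, comp_ite, End.asHom]

theorem mk_injective (hsc : Function.Injective sc) {m n : ℕ} :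
    Function.Injective (mk sc : Matrix (Fin m) (Fin n) A → _) := by
  intro a b h
  ext i j
  exact hsc ((ι_mk_proj sc a i j).symm.trans (by rw [h]; exact ι_mk_proj sc b i j))

theorem mk_surjective (hsc : Function.Surjective sc) {m n : ℕ}
    (f : (∐ fun _ : Fin n => O) ⟶ ∐ fun _ : Fin m => O) :
    ∃ a : Matrix (Fin m) (Fin n) A, mk sc a = f := by
  choose a ha using fun (i : Fin m) (j : Fin n) =>
    hsc (Sigma.ι (fun _ : Fin n => O) j ≫ f ≫ proj i)
  refine ⟨Matrix.of a, Sigma.hom_ext _ _ fun j => ?_⟩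
  conv_rhs => rw [← Category.comp_id f, ← sum_proj_ι m]
  simp [ι_mk, ha, Preadditive.comp_sum, End.asHom]

theorem mk_comp {l m n : ℕ} (a : Matrix (Fin m) (Fin n) A) (b : Matrix (Fin l) (Fin m) A) :
    mk sc a ≫ mk sc b = mk sc (b * a) := by
  refine Sigma.hom_ext _ _ fun j => ?_
  simp only [ι_mk_assoc, Preadditive.sum_comp, Category.assoc, ι_mk, Preadditive.comp_sum,
    Matrix.mul_apply, map_sum, End.asHom]
  rw [Finset.sum_comm]
  refine Finset.sum_congr rfl fun k _ => ?_
  rw [Preadditive.sum_comp]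
  refine Finset.sum_congr rfl fun x _ => ?_
  rw [map_mul, End.mul_def, Category.assoc]

theorem mk_one (n : ℕ) : mk sc (1 : Matrix (Fin n) (Fin n) A) = 𝟙 _ := by
  refine Sigma.hom_ext _ _ fun j => ?_
  rw [ι_mk, Finset.sum_eq_single j]
  · simp [End.asHom]
  · intro i _ hi; simp [hi, End.asHom]
  · simp

theorem ι_mk_scalar {n : ℕ} (D : A) (j : Fin n) :
    Sigma.ι (fun _ : Fin n => O) j ≫ mk sc (D • (1 : Matrix (Fin n) (Fin n) A)) =
      End.asHom (sc D) ≫ Sigma.ι (fun _ : Fin n => O) j := by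
  rw [ι_mk, Finset.sum_eq_single j]
  · simp
  · intro i _ hi; simp [hi, End.asHom]
  · simp

theorem mk_scalar_proj {n : ℕ} (D : A) (k : Fin n) :
    mk sc (D • (1 : Matrix (Fin n) (Fin n) A)) ≫ proj k = proj k ≫ End.asHom (sc D) := by
  refine Sigma.hom_ext _ _ fun j => ?_
  rw [← Category.assoc, ι_mk_scalar, Category.assoc, ι_proj, ← Category.assoc, ι_proj]
  split <;> simp

variable {C' : Type*} [Category C'] [Preadditive C'] (F : C ⥤ C') [F.Additive]

/-- A functor inverting the scalar `D` inverts the scalar matrix `D • 1`. -/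
theorem isIso_map_mk_scalar (n : ℕ) (D : A) (hD : IsIso (F.map (End.asHom (sc D)))) :
    IsIso (F.map (mk sc (D • (1 : Matrix (Fin n) (Fin n) A)))) := by
  refine ⟨∑ k, F.map (proj k) ≫ inv (F.map (End.asHom (sc D))) ≫
    F.map (Sigma.ι (fun _ : Fin n => O) k), ?_, ?_⟩
  · rw [Preadditive.comp_sum, ← F.map_id, ← sum_proj_ι n, Functor.map_sum]
    refine Finset.sum_congr rfl fun k _ => ?_
    rw [← F.map_comp_assoc, mk_scalar_proj, F.map_comp_assoc, IsIso.hom_inv_id_assoc, F.map_comp]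
  · rw [Preadditive.sum_comp, ← F.map_id, ← sum_proj_ι n, Functor.map_sum]
    refine Finset.sum_congr rfl fun k _ => ?_
    rw [Category.assoc, Category.assoc, ← F.map_comp, ι_mk_scalar, F.map_comp,
      IsIso.inv_hom_id_assoc, F.map_comp]

/-- If an idempotent `π ≫ i` of `O^n` has matrix `P`, and `P` splits up to `D`, then a functor
inverting `D` identifies the image of `π ≫ i` with `O^r`. -/
theorem isIso_map_of_split {n r : ℕ} {M : C} (i : M ⟶ ∐ fun _ : Fin n => O)
    (π : (∐ fun _ : Fin n => O) ⟶ M) (h : i ≫ π = 𝟙 M) (P : Matrix (Fin n) (Fin n) A)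
    (hP : mk sc P = π ≫ i) (a : Matrix (Fin n) (Fin r) A) (b : Matrix (Fin r) (Fin n) A) (D : A)
    (hba : b * P * a = D • 1) (hab : P * a * b * P = D • P)
    (hD : IsIso (F.map (End.asHom (sc D)))) :
    IsIso (F.map (mk sc a ≫ π)) := by
  have hi : i ≫ mk sc P = i := by rw [hP, ← Category.assoc, h, Category.id_comp]
  have hπ : mk sc P ≫ π = π := by rw [hP, Category.assoc, h, Category.comp_id]
  let Δ := mk sc (D • (1 : Matrix (Fin n) (Fin n) A))
  have h1 : (mk sc a ≫ π) ≫ i ≫ mk sc b = mk sc (D • (1 : Matrix (Fin r) (Fin r) A)) := by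
    rw [Category.assoc, ← Category.assoc π, ← hP, mk_comp, mk_comp, hba]
  have h2 : (i ≫ mk sc b) ≫ mk sc a ≫ π = i ≫ Δ ≫ π := by
    calc (i ≫ mk sc b) ≫ mk sc a ≫ π
        = i ≫ (mk sc P ≫ mk sc b ≫ mk sc a ≫ mk sc P) ≫ π := by
          simp only [Category.assoc, hπ]; rw [reassoc_of% hi]
      _ = i ≫ mk sc (D • P) ≫ π := by
          simp only [mk_comp]
          rw [hab]
      _ = i ≫ (mk sc P ≫ Δ) ≫ π := by rw [mk_comp, Matrix.smul_mul, Matrix.one_mul]
      _ = i ≫ Δ ≫ π := by simp only [Category.assoc]; rw [reassoc_of% hi]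
  have hcomm : Commute P (D • (1 : Matrix (Fin n) (Fin n) A)) := (Commute.one_right P).smul_right D
  have hΔp : Δ ≫ π ≫ i = (π ≫ i) ≫ Δ := by rw [← hP, mk_comp, mk_comp, hcomm.eq]
  haveI := isIso_map_mk_scalar sc F n D hD
  haveI : IsIso (F.map (i ≫ Δ ≫ π)) := by
    have hcr : CommSq (F.map Δ) (F.map (π ≫ i)) (F.map (π ≫ i)) (F.map Δ) :=
      ⟨by rw [← F.map_comp, ← F.map_comp, hΔp]⟩
    have hc : inv (F.map Δ) ≫ F.map (π ≫ i) = F.map (π ≫ i) ≫ inv (F.map Δ) := by
      rw [IsIso.inv_comp_eq, ← Category.assoc, IsIso.eq_comp_inv, hcr.w]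
    refine ⟨F.map i ≫ inv (F.map Δ) ≫ F.map π, ?_, ?_⟩
    · calc F.map (i ≫ Δ ≫ π) ≫ F.map i ≫ inv (F.map Δ) ≫ F.map π
          = F.map i ≫ F.map (Δ ≫ π ≫ i) ≫ inv (F.map Δ) ≫ F.map π := by simp
        _ = F.map (i ≫ π) ≫ F.map (i ≫ π) := by rw [hΔp]; simp
        _ = 𝟙 _ := by simp [h]
    · calc (F.map i ≫ inv (F.map Δ) ≫ F.map π) ≫ F.map (i ≫ Δ ≫ π)
          = F.map i ≫ (inv (F.map Δ) ≫ F.map (π ≫ i)) ≫ F.map Δ ≫ F.map π := by simp
        _ = F.map (i ≫ π) ≫ F.map (i ≫ π) := by rw [hc]; simp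
        _ = 𝟙 _ := by simp [h]
  haveI := isIso_map_mk_scalar sc F r D hD
  haveI : Mono (F.map (mk sc a ≫ π)) :=
    haveI : IsIso (F.map (mk sc a ≫ π) ≫ F.map (i ≫ mk sc b)) := by
      rw [← F.map_comp, h1]; infer_instance
    mono_of_mono _ (F.map (i ≫ mk sc b))
  haveI : IsSplitEpi (F.map (mk sc a ≫ π)) :=
    IsSplitEpi.mk' ⟨inv (F.map (i ≫ Δ ≫ π)) ≫ F.map (i ≫ mk sc b), by
      rw [Category.assoc, ← F.map_comp, h2, IsIso.inv_hom_id]⟩
  exact isIso_of_mono_of_isSplitEpi _

end Groth.Agent.FlatModSummand
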